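import Mathlib
import Groth.Agent.Lib.Helper24.Unibranch.Top
import Groth.Agent.Lib.Helper13.RegDimOne
import Groth.Agent.Lib.Helper13.FlatDimOne

/-!
# Flatness over regular one-dimensional bases via torsion-freeness (helper24)
-/

set_option autoImplicit false
universe u
open TopologicalSpace CategoryTheory AlgebraicGeometry

namespace Groth.Agent.Lib.Helper24.FlatDed

open Groth.Agent.Lib.Helper24.Unibranch

theorem specializes_fromSpecStalk {X : Scheme.{u}} {x : X} (P : Spec (X.presheaf.stalk x)) :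
    X.fromSpecStalk x P ⤳ x := by
  have : X.fromSpecStalk x P ∈ Set.range (X.fromSpecStalk x) := ⟨P, rfl⟩
  rw [Scheme.range_fromSpecStalk] at this
  exact this

theorem isMaxPt_fromSpecStalk {X : Scheme.{u}} {x : X} (p : Ideal (X.presheaf.stalk x))
    (hp : p ∈ minimalPrimes (X.presheaf.stalk x)) :
    IsMaxPt (X.fromSpecStalk x ⟨p, hp.1.1⟩) := by
  have hemb := (X.fromSpecStalk x).isEmbedding
  intro ζ hζ
  have h1 : ζ ⤳ x := hζ.trans (specializes_fromSpecStalk _)
  have h2 : ζ ∈ Set.range (X.fromSpecStalk x) := by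
    rw [Scheme.range_fromSpecStalk]; exact h1
  obtain ⟨Q, rfl⟩ := h2
  rw [hemb.isInducing.specializes_iff] at hζ
  have h3 : Q.asIdeal ≤ p :=
    (PrimeSpectrum.le_iff_specializes (R := X.presheaf.stalk x) Q ⟨p, hp.1.1⟩).mpr hζ
  have h4 : p ≤ Q.asIdeal := hp.2 ⟨Q.isPrime, bot_le⟩ h3
  congr 1
  exact PrimeSpectrum.ext (le_antisymm h3 h4)

/-- Torsion-freeness criterion for flatness of a stalk map into a reduced local ring. -/
theorem flat_stalkMap {X Y : Scheme.{u}} (f : X ⟶ Y) (x : X)
    [IsDomain (Y.presheaf.stalk (f x))] [ValuationRing (Y.presheaf.stalk (f x))]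
    [_root_.IsReduced (X.presheaf.stalk x)]
    (h : ∀ ξ : X, ξ ⤳ x → IsMaxPt ξ → IsMaxPt (f ξ)) : (f.stalkMap x).hom.Flat := by
  letI := (f.stalkMap x).hom.toAlgebra
  show Module.Flat (Y.presheaf.stalk (f x)) (X.presheaf.stalk x)
  rw [Module.Flat.flat_iff_torsion_eq_bot_of_isBezout, eq_bot_iff]
  intro b hb
  rw [Submodule.mem_torsion_iff] at hb
  obtain ⟨⟨r, hr⟩, h0⟩ := hb
  have h0' : (f.stalkMap x).hom r * b = 0 := h0
  rw [Submodule.mem_bot]
  have hr0 : r ≠ 0 := nonZeroDivisors.ne_zero hr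
  have hmem : b ∈ nilradical (X.presheaf.stalk x) := by
    rw [nilradical, ← Ideal.sInf_minimalPrimes, Ideal.mem_sInf]
    intro P hP
    haveI : P.IsPrime := hP.1.1
    have hP' : P ∈ minimalPrimes (X.presheaf.stalk x) := hP
    have hmul : (f.stalkMap x).hom r * b ∈ P := by rw [h0']; exact P.zero_mem
    rcases Ideal.IsPrime.mem_or_mem ‹_› hmul with h1 | h1
    · exfalso
      -- the contraction of `P` is zero
      let P' : Spec (X.presheaf.stalk x) := ⟨P, hP'.1.1⟩
      let Q' : Spec (Y.presheaf.stalk (f x)) := Spec.map (f.stalkMap x) P'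
      let B' : Spec (Y.presheaf.stalk (f x)) := ⟨⊥, Ideal.isPrime_bot⟩
      have hnat : Y.fromSpecStalk (f x) Q' = f (X.fromSpecStalk x P') := by
        have := congr($(Scheme.SpecMap_stalkMap_fromSpecStalk f (x := x)) P')
        rwa [Scheme.Hom.comp_apply, Scheme.Hom.comp_apply] at this
      have hmax : IsMaxPt (f (X.fromSpecStalk x P')) :=
        h _ (specializes_fromSpecStalk P') (isMaxPt_fromSpecStalk P hP')
      have hle : B' ⤳ Q' :=
        (PrimeSpectrum.le_iff_specializes (R := Y.presheaf.stalk (f x)) B' Q').mp bot_le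
      have hsp : Y.fromSpecStalk (f x) B' ⤳ f (X.fromSpecStalk x P') := by
        rw [← hnat]
        exact hle.map (Y.fromSpecStalk (f x)).continuous
      have heq : Y.fromSpecStalk (f x) B' = Y.fromSpecStalk (f x) Q' := by
        rw [hnat]; exact hmax _ hsp
      have heq' : B' = Q' := (Y.fromSpecStalk (f x)).isEmbedding.injective heq
      have hrQ : r ∈ Q'.asIdeal := h1
      rw [← heq'] at hrQ
      exact hr0 hrQ
    · exact h1
  exact (mem_nilradical.mp hmem).eq_zero

end Groth.Agent.Lib.Helper24.FlatDed
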