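import Mathlib
import Groth.Agent.Lib.Helper24.FlatDed.Stalk

/-!
# Flat over a Dedekind scheme iff components dominate (reduced source) (helper24)
-/

set_option autoImplicit false
universe u
open TopologicalSpace CategoryTheory AlgebraicGeometry

namespace Groth.Agent.Lib.Helper24.FlatDed

open Groth.Agent.Lib.Helper24.Unibranch

/-- A point whose closure is everything is a maximal point. -/
theorem isMaxPt_of_closure_eq_univ {Y : Type*} [TopologicalSpace Y] [T0Space Y] {η : Y}
    (h : closure ({η} : Set Y) = Set.univ) : IsMaxPt η := by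
  intro ζ hζ
  have h1 : η ⤳ ζ := by
    rw [specializes_iff_mem_closure, h]; exact Set.mem_univ _
  exact (hζ.antisymm h1).eq

theorem closure_map_eq_univ_of_dense {X Y : Type*} [TopologicalSpace X] [TopologicalSpace Y]
    {f : X → Y} (hf : Continuous f) {ξ : X} (h : Dense (f '' closure {ξ})) :
    closure ({f ξ} : Set Y) = Set.univ := by
  have h1 : f '' closure {ξ} ⊆ closure {f ξ} := by
    have := image_closure_subset_closure_image (s := {ξ}) hf
    rwa [Set.image_singleton] at this
  have h2 : closure (f '' closure {ξ}) ⊆ closure {f ξ} :=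
    closure_minimal h1 isClosed_closure
  rw [h.closure_eq] at h2
  exact Set.eq_univ_of_univ_subset h2

/-- Flatness over a scheme with valuation-ring stalks, for reduced source whose components
dominate. -/
theorem flat_of_dense {X Y : Scheme.{u}} (f : X ⟶ Y) [AlgebraicGeometry.IsReduced X]
    (hY : ∀ y : Y, ∃ _ : IsDomain (Y.presheaf.stalk y), ValuationRing (Y.presheaf.stalk y))
    (U : Set X) (hU : ∀ x ∈ U, ∀ ξ : X, ξ ⤳ x → IsMaxPt ξ → closure ({f ξ} : Set Y) = Set.univ)
    (x : X) (hx : x ∈ U) : (f.stalkMap x).hom.Flat := by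
  obtain ⟨_, _⟩ := hY (f x)
  exact flat_stalkMap f x (fun ξ h1 h2 => isMaxPt_of_closure_eq_univ (hU x hx ξ h1 h2))

theorem main10887 {X Y : Scheme.{u}} [IsIntegral Y]
    (hreg : ∀ y : Y, IsRegularLocalRing (Y.presheaf.stalk y))
    (hdim : topologicalKrullDim Y ≤ 1)
    (f : X ⟶ Y) [AlgebraicGeometry.IsReduced X] :
    Flat f ↔ ∀ Z ∈ irreducibleComponents (X : Type u), Dense (f.base '' Z) := by
  constructor
  · intro hflat Z hZ
    have hg := hZ.1.isGenericPoint_genericPoint (isClosed_of_mem_irreducibleComponents Z hZ)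
    have hmax : IsMaxPt (f hZ.1.genericPoint) :=
      (isMaxPt_of_isGenericPoint hZ hg).map (Flat.generalizingMap f)
    have heq : genericPoint Y = f hZ.1.genericPoint :=
      hmax _ (genericPoint_specializes _)
    have hmem : f hZ.1.genericPoint ∈ f.base '' Z := ⟨_, hg.mem, rfl⟩
    rw [dense_iff_closure_eq, Set.eq_univ_iff_forall]
    intro y
    have h1 : closure ({f hZ.1.genericPoint} : Set Y) ⊆ closure (f.base '' Z) :=
      closure_mono (Set.singleton_subset_iff.mpr hmem)
    apply h1
    rw [← heq, genericPoint_closure]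
    exact Set.mem_univ y
  · intro h
    rw [Flat.iff_flat_stalkMap]
    intro x
    refine flat_of_dense f (fun y => ?_) Set.univ ?_ x (Set.mem_univ x)
    · have := hreg y
      exact Groth.Agent.Lib.Helper13.RegDimOne.isDomain_and_valuationRing _
        (Groth.Agent.Lib.Helper13.FlatDimOne.ringKrullDim_stalk_le_one Y hdim y)
    · intro x _ ξ _ hmax
      exact closure_map_eq_univ_of_dense f.continuous
        (h _ hmax.closure_mem_irreducibleComponents)

end Groth.Agent.Lib.Helper24.FlatDed
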