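import Mathlib
import Groth.Agent.Lib.Helper24.FlatDed.Main10887

/-!
# Universally open neighbourhood of a fibre over a Dedekind-like base (helper24)
-/

set_option autoImplicit false
universe u
open TopologicalSpace CategoryTheory CategoryTheory.Limits AlgebraicGeometry

namespace Groth.Agent.Lib.Helper24.FlatDed

open Groth.Agent.Lib.Helper24.Unibranch

set_option backward.isDefEq.respectTransparency.types false in
theorem universallyOpen_of_comp_surjective {X Y Z : Scheme.{u}} (f : X ⟶ Y) (g : Y ⟶ Z)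
    [UniversallyOpen (f ≫ g)] [Surjective f] : UniversallyOpen g := by
  constructor
  intro X' Y' i₁ i₂ f' H
  have := UniversallyOpen.universally_isOpenMap _ _ _
    ((IsPullback.of_hasPullback i₁ f).paste_horiz H)
  have hsurj : Function.Surjective (pullback.fst i₁ f) :=
    (MorphismProperty.pullback_fst (P := @Surjective) _ _ ‹_›).1
  intro K hK
  rw [← Set.image_preimage_eq K hsurj, ← Set.image_comp]
  exact this _ (hK.preimage (Scheme.Hom.continuous _))

/-- The good locus: points all of whose maximal generizations map to a generic point. -/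
def good {X Y : Scheme.{u}} (f : X ⟶ Y) : Set X :=
  {x | ∀ ξ : X, ξ ⤳ x → IsMaxPt ξ → closure ({f ξ} : Set Y) = Set.univ}

theorem isOpen_good {X Y : Scheme.{u}} (f : X ⟶ Y) [IsLocallyNoetherian X] :
    IsOpen (good f) := by
  classical
  rw [isOpen_iff_forall_mem_open]
  intro x hx
  obtain ⟨W, hW, hxW, -⟩ := Opens.isBasis_iff_nbhd.mp X.isBasis_affineOpens
    (show x ∈ (⊤ : X.Opens) from trivial)
  haveI : IsNoetherianRing Γ(X, W) := IsLocallyNoetherian.component_noetherian ⟨W, hW⟩
  haveI : NoetherianSpace ↥(W : Set X) := noetherianSpace_of_isAffineOpen W hW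
  haveI : QuasiSober ↥(W : Set X) := W.isOpen.isOpenEmbedding_subtypeVal.quasiSober
  -- maximal points in `W`
  let T : Set ↥(W : Set X) := {ξ | IsMaxPt (ξ : X)}
  have hTmax : ∀ ξ ∈ T, IsMaxPt ξ := by
    intro ξ hξ ζ hζ
    have h1 : (ζ : X) ⤳ (ξ : X) := hζ.map continuous_subtype_val
    exact Subtype.ext (hξ _ h1)
  have hTfin : T.Finite := by
    have hfin := NoetherianSpace.finite_irreducibleComponents (α := ↥(W : Set X))
    refine Set.Finite.of_injOn (f := fun ξ => closure ({ξ} : Set ↥(W : Set X))) (t := irreducibleComponents ↥(W : Set X)) ?_ ?_ hfin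
    · intro ξ hξ
      exact (hTmax ξ hξ).closure_mem_irreducibleComponents
    · intro ξ₁ _ ξ₂ _ he
      exact (inseparable_iff_closure_eq.mpr he).eq
  let bad : Set ↥(W : Set X) := {ξ ∈ T | closure ({f (ξ : X)} : Set Y) ≠ Set.univ}
  have hbadfin : bad.Finite := hTfin.subset (fun ξ hξ => hξ.1)
  let C : Set X := ⋃ ξ ∈ bad, closure ({(ξ : X)} : Set X)
  have hC : IsClosed C := hbadfin.isClosed_biUnion (fun _ _ => isClosed_closure)
  refine ⟨(W : Set X) ∩ Cᶜ, ?_, W.isOpen.inter hC.isOpen_compl, ⟨hxW, ?_⟩⟩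
  · rintro x' ⟨hx'W, hx'C⟩ ξ hξx' hξmax
    have hξW : ξ ∈ (W : Set X) := hξx'.mem_open W.isOpen hx'W
    by_contra hne
    apply hx'C
    have hbad : (⟨ξ, hξW⟩ : ↥(W : Set X)) ∈ bad := ⟨hξmax, hne⟩
    exact Set.mem_biUnion hbad (specializes_iff_mem_closure.mp hξx')
  · intro hxC
    simp only [C, Set.mem_iUnion] at hxC
    obtain ⟨ξ, hξbad, hxξ⟩ := hxC
    exact hξbad.2 (hx ξ (specializes_iff_mem_closure.mpr hxξ) hξbad.1)

/-- Key lemma: affine charts inside the good locus are universally open over `Y`. -/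
theorem universallyOpen_chart {X Y : Scheme.{u}} [IsLocallyNoetherian Y] (f : X ⟶ Y)
    [LocallyOfFiniteType f]
    (hY : ∀ y : Y, ∃ _ : IsDomain (Y.presheaf.stalk y), ValuationRing (Y.presheaf.stalk y))
    (S : CommRingCat.{u}) (j : Spec S ⟶ X) [IsOpenImmersion j]
    (hj : Set.range j ⊆ good f) : UniversallyOpen (j ≫ f) := by
  let Sred : CommRingCat.{u} := CommRingCat.of (S ⧸ nilradical S)
  let q : S ⟶ Sred := CommRingCat.ofHom (Ideal.Quotient.mk (nilradical S))
  let p : Spec Sred ⟶ Spec S := Spec.map q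
  have hqsurj : Function.Surjective q.hom := Ideal.Quotient.mk_surjective
  haveI : IsClosedImmersion p := IsClosedImmersion.spec_of_surjective q hqsurj
  haveI : Surjective p := by
    constructor
    intro P
    have hker : RingHom.ker q.hom ≤ P.asIdeal := by
      have h1 : RingHom.ker q.hom = nilradical S := Ideal.mk_ker
      rw [h1]
      exact nilradical_le_prime P.asIdeal
    refine ⟨⟨P.asIdeal.map q.hom, Ideal.map_isPrime_of_surjective hqsurj hker⟩, ?_⟩
    apply PrimeSpectrum.ext
    show Ideal.comap q.hom (Ideal.map q.hom P.asIdeal) = P.asIdeal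
    rw [Ideal.comap_map_of_surjective _ hqsurj]
    exact sup_eq_left.mpr (by rwa [← RingHom.ker_eq_comap_bot])
  haveI : _root_.IsReduced (S ⧸ nilradical S) := by
    have : (nilradical S).IsRadical := by
      rw [nilradical]; exact Ideal.radical_isRadical _
    exact (Ideal.isRadical_iff_quotient_reduced _).mp this
  haveI : AlgebraicGeometry.IsReduced (Spec Sred) := (affine_isReduced_iff Sred).mpr
    (inferInstanceAs (_root_.IsReduced (S ⧸ nilradical S)))
  -- the composite is flat
  have hemb : Topology.IsEmbedding (p ≫ j) :=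
    j.isOpenEmbedding.isEmbedding.comp p.isClosedEmbedding.isEmbedding
  have hgen : ∀ ξ' : Spec Sred, ∀ ζ : X, ζ ⤳ (p ≫ j) ξ' → ζ ∈ Set.range (p ≫ j) := by
    intro ξ' ζ hζ
    have h1 : ζ ∈ Set.range j :=
      hζ.mem_open j.isOpenEmbedding.isOpen_range ⟨p ξ', by rw [Scheme.Hom.comp_apply]⟩
    obtain ⟨a, rfl⟩ := h1
    obtain ⟨b, rfl⟩ := (inferInstance : Surjective p).surj a
    exact ⟨b, by rw [Scheme.Hom.comp_apply]⟩
  haveI : Flat ((p ≫ j) ≫ f) := by
    rw [Flat.iff_flat_stalkMap]
    intro x'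
    refine flat_of_dense ((p ≫ j) ≫ f) hY Set.univ ?_ x' (Set.mem_univ _)
    intro x' _ ξ' hξ'x' hξ'max
    have hmax : IsMaxPt ((p ≫ j) ξ') := by
      intro ζ hζ
      obtain ⟨ζ', rfl⟩ := hgen ξ' ζ hζ
      rw [hemb.isInducing.specializes_iff] at hζ
      rw [hξ'max ζ' hζ]
    have hgood : (p ≫ j) x' ∈ good f := hj ⟨p x', by rw [Scheme.Hom.comp_apply]⟩
    have := hgood _ (hξ'x'.map (p ≫ j).continuous) hmax
    rwa [Scheme.Hom.comp_apply]
  haveI : UniversallyOpen (p ≫ (j ≫ f)) := by
    rw [← Category.assoc]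
    infer_instance
  exact universallyOpen_of_comp_surjective p (j ≫ f)

theorem main2572 {X Y : Scheme.{u}} [IsLocallyNoetherian Y] [IrreducibleSpace Y]
    (hY : ∀ y : Y, IsRegularLocalRing (Y.presheaf.stalk y) ∧ ringKrullDim (Y.presheaf.stalk y) ≤ 1)
    (f : X ⟶ Y) [LocallyOfFiniteType f] (y : Y)
    (h : ∀ Z ∈ irreducibleComponents (X : Type u), (Z ∩ f.base ⁻¹' {y}).Nonempty →
      Dense (f.base '' Z)) :
    ∃ U : X.Opens, f.base ⁻¹' {y} ⊆ (U : Set X) ∧ UniversallyOpen (U.ι ≫ f) := by
  haveI : IsLocallyNoetherian X := LocallyOfFiniteType.isLocallyNoetherian f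
  have hY' : ∀ y : Y, ∃ _ : IsDomain (Y.presheaf.stalk y), ValuationRing (Y.presheaf.stalk y) := by
    intro y
    have := (hY y).1
    exact Groth.Agent.Lib.Helper13.RegDimOne.isDomain_and_valuationRing _ (hY y).2
  let U : X.Opens := ⟨good f, isOpen_good f⟩
  refine ⟨U, ?_, ?_⟩
  · intro x hx ξ hξx hξmax
    have hZ := hξmax.closure_mem_irreducibleComponents
    have hne : (closure ({ξ} : Set X) ∩ f.base ⁻¹' {y}).Nonempty :=
      ⟨x, specializes_iff_mem_closure.mp hξx, hx⟩
    exact closure_map_eq_univ_of_dense f.continuous (h _ hZ hne)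
  · rw [IsZariskiLocalAtSource.iff_of_openCover (P := @UniversallyOpen)
      (U : Scheme.{u}).affineCover]
    intro i
    have hrange : Set.range ((U : Scheme.{u}).affineCover.f i ≫ U.ι) ⊆ good f := by
      rintro _ ⟨a, rfl⟩
      rw [Scheme.Hom.comp_apply]
      exact ((U : Scheme.{u}).affineCover.f i a).2
    haveI : IsOpenImmersion ((U : Scheme.{u}).affineCover.f i) :=
      (U : Scheme.{u}).affineCover.map_prop i
    have hcomp : IsOpenImmersion ((U : Scheme.{u}).affineCover.f i ≫ U.ι) := inferInstance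
    have key := @universallyOpen_chart X Y _ f _ hY' _
      ((U : Scheme.{u}).affineCover.f i ≫ U.ι) hcomp hrange
    rwa [Category.assoc] at key

end Groth.Agent.Lib.Helper24.FlatDed
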